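import Groth.Agent.Htor.H249.RGammaDict
import Groth.Agent.Htor.H251.TildeDict
import Groth.Agent.Htor.H240.FlatTens
import Groth.Agent.CohtopB.LeftRes
import Groth.Agent.S1118

/-!
# Projection formula over an affine base

`computes_tensorA_of_quasiIso`: for `f : X ⟶ Spec A`, `P` in `D_QCoh(O_X)`, `L` bounded above projective computing
`RΓ(X, P)`, `K` bounded above projective, `u : K ⟶ Q` a quasi-isomorphism such that `P ⊗ f^*K~ ⟶ P ⊗ f^*Q~` is a
quasi-isomorphism, `L ⊗ Q` computes `RΓ(X, P ⊗_A Q)`.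
-/

set_option autoImplicit false

universe u

open CategoryTheory CategoryTheory.Limits AlgebraicGeometry Opposite

attribute [local instance] HasDerivedCategory.standard

namespace Groth.Agent.Htor.H249.ProjForm

open Groth.Agent.Htor.H249.RGammaDict Groth.Agent.Htor.H251.TildeDict Groth.Agent.Cohder

variable {A : Type u} [CommRing A]

/-- Bounded above complexes have bounded above projective resolutions. -/
theorem exists_projective_resolution (Q : DRing.Cx A) (bQ : ∃ b : ℤ, DRing.VanishesAbove Q b) :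
    ∃ (K : DRing.Cx A) (u : K ⟶ Q), (∀ i, Projective (K.X i)) ∧ (∃ b : ℤ, DRing.VanishesAbove K b) ∧
      QuasiIso u := by
  obtain ⟨b, hb⟩ := bQ
  obtain ⟨K, u, h1, h2, h3⟩ := Groth.Agent.CohtopB.LeftRes.exists_left_resolution'
    (fun M : ModuleCat.{u} A => Projective M) ⟨ModuleCat.of A PUnit.{u + 1}, ModuleCat.isZero_of_subsingleton _,
      (ModuleCat.isZero_of_subsingleton (ModuleCat.of A PUnit.{u + 1})).projective⟩
    (fun M => ⟨Projective.over M, Projective.π M, inferInstance, inferInstance⟩) Q b (fun n hn => by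
      rw [← HomologicalComplex.exactAt_iff_isZero_homology]
      exact HomologicalComplex.ExactAt.of_isZero (hb n hn))
  exact ⟨K, u, h2, ⟨b, (CochainComplex.isStrictlyLE_iff K b).1 h1⟩, h3⟩

lemma isQCohD_of_iso {X : Scheme.{u}} {K L : DCoh.D X} (e : K ≅ L) (h : DCoh.IsQCohD K) :
    DCoh.IsQCohD L := fun i =>
  (SheafOfModules.isQuasicoherent X.ringCatSheaf).prop_of_iso
    ((DerivedCategory.homologyFunctor X.Modules i).mapIso e) (h i)

variable {X : Scheme.{u}} (f : X ⟶ Spec (CommRingCat.of A)) [QuasiCompact f] [QuasiSeparated f]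

lemma isQCohD_toD_tCx (L : DRing.Cx A) :
    DCoh.IsQCohD (DCoh.toD (Spec (CommRingCat.of A)) ((tCx A).obj L)) :=
  isQCohD_of_iso (tilQ L) (isQCohD_til (DRing.toD L))

/-- The projection formula for `f^* K~`, `K` bounded above projective. -/
theorem nonempty_rpush_tensor [DCoh.HasRpush f]
    (P : CochainComplex X.Modules ℤ) (hP : DCoh.IsQCohD (DCoh.toD X P))
    (L : DRing.Cx A) (e : Nonempty (DCoh.toD (Spec (CommRingCat.of A)) ((tCx A).obj L) ≅
      (DCoh.Rpush f).obj (DCoh.toD X P)))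
    (K : DRing.Cx A) (hK : ∀ i : ℤ, Projective (K.X i)) (cK : ∃ c : ℤ, DRing.VanishesAbove K c) :
    Nonempty (DCoh.toD (Spec (CommRingCat.of A)) ((tCx A).obj (HTor.tensorCx L K)) ≅
      (DCoh.Rpush f).obj (DCoh.toD X (HTor.tensorACx f P K))) := by
  obtain ⟨e⟩ := e
  have h1 := Groth.Agent.Dcoh.DerPull.hasLpull f
  have hKf : DCoh.IsKFlat ((tCx A).obj K) := isKFlat_tilde K hK cK
  have hM : DCoh.IsKFlat ((HTor.ofModuleCx f).obj K) :=
    Groth.Agent.Dcoh.KFlatInput.isKFlat_pullback f _ hKf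
  have h2 := Groth.Agent.PerfC.DTens.hasLTensorCx ((tCx A).obj K)
  have h3 := Groth.Agent.PerfC.DTens.hasLTensorCx ((HTor.ofModuleCx f).obj K)
  obtain ⟨a⟩ := Groth.Agent.S1118.result f (DCoh.toD X P) hP ((tCx A).obj K) (isQCohD_toD_tCx K)
    ((HTor.ofModuleCx f).obj K) ⟨(Groth.Agent.Dcoh.DerPull.lpullIso f _ hKf).symm⟩
  obtain ⟨b⟩ := nonempty_tilde_tensor' K L hK cK
  exact ⟨b.symm ≪≫ (DCoh.LTensorCx ((tCx A).obj K)).mapIso e ≪≫ a ≪≫
    (DCoh.Rpush f).mapIso (RelPCMon.cxIso' P _ hM)⟩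

/-- Projection formula, given that `P ⊗ f^*K~ ⟶ P ⊗ f^*Q~` is a quasi-isomorphism. -/
theorem computes_tensorA_of_quasiIso [HTor.HasRΓA f]
    (P : CochainComplex X.Modules ℤ) (hP : DCoh.IsQCohD (DCoh.toD X P))
    (L : DRing.Cx A) (hL : ∀ i : ℤ, Projective (L.X i)) (c : ∃ c : ℤ, DRing.VanishesAbove L c)
    (e : HTor.Computes f L (DCoh.toD X P))
    {K Q : DRing.Cx A} (hK : ∀ i : ℤ, Projective (K.X i)) (cK : ∃ c : ℤ, DRing.VanishesAbove K c)
    (u : K ⟶ Q) [QuasiIso u] (hu : QuasiIso ((DCoh.tensorCx.obj P).map ((HTor.ofModuleCx f).map u))) :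
    HTor.Computes f (HTor.tensorCx L Q) (DCoh.toD X (HTor.tensorACx f P Q)) := by
  have h1 := Groth.Agent.Dcoh.DerSch.hasRpush f
  obtain ⟨a⟩ := nonempty_rpush_tensor f P hP L ((computes_iff f _ hP L).1 e) K hK cK
  have h2 : DCoh.IsQCohD ((DCoh.Rpush f).obj (DCoh.toD X (HTor.tensorACx f P K))) :=
    isQCohD_of_iso a (isQCohD_toD_tCx _)
  obtain ⟨b⟩ := (computes_iff' f (DCoh.toD X (HTor.tensorACx f P K)) h2 (HTor.tensorCx L K)).2 ⟨a⟩
  obtain ⟨c, hc⟩ := c
  have h3 : QuasiIso (HomologicalComplex.tensorHom (𝟙 L) u) :=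
    Groth.Agent.Htor.H240.FlatTens.quasiIso_tensorHom_left L (fun i => by
      have : Module.Projective A (L.X i) := (IsProjective.iff_projective _).2 (hL i)
      infer_instance) hc u
  exact ⟨(asIso (DerivedCategory.Q.map (HomologicalComplex.tensorHom (𝟙 L) u))).symm ≪≫ b ≪≫
    (HTor.RΓA f).mapIso (asIso (DerivedCategory.Q.map
      ((DCoh.tensorCx.obj P).map ((HTor.ofModuleCx f).map u))))⟩

end Groth.Agent.Htor.H249.ProjForm
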